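import Cfsg.Agent.Known.OrthCount
import Cfsg.Agent.Classical.Misc.Spinor
import Cfsg.Agent.Classical.Orth.StdForms
import Mathlib

/-!
No element of the kernel of the spinor character of an odd-dimensional orthogonal group has order
`p * (q ^ m + 1)`, where the dimension is `2 * m + 3`.
-/

set_option autoImplicit false
set_option linter.style.haveILetI false
set_option linter.unusedSectionVars false

open QuadraticMap Submodule Cfsg.Lib.FormNormal

namespace Cfsg.Lib.OrthSpectrum

universe u v

section Linear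

variable {F : Type u} [Field F] [Fintype F] {V : Type v} [AddCommGroup V] [Module F V] [FiniteDimensional F V]
  (Q : QuadraticForm F V)

theorem polar_map {a : Module.End F V} (ha : ∀ v, Q (a v) = Q v) (x y : V) :
    polar (⇑Q) (a x) (a y) = polar (⇑Q) x y := by
  simp only [polar, ← map_add, ha]

theorem nilpotent_pow_apply (n : Module.End F V) :
    ∀ (k : ℕ) (U : Submodule F V), (∀ x ∈ U, n x ∈ U) → Module.finrank F U ≤ k → IsNilpotent n → ∀ x ∈ U, (n ^ k) x = 0 := by
  intro k
  induction k with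
  | zero =>
    intro U _ hd _ x hx
    rw [Submodule.finrank_eq_zero.1 (Nat.le_zero.1 hd), Submodule.mem_bot] at hx
    rw [hx, map_zero]
  | succ k ih =>
    intro U hU hd hn x hx
    rw [pow_succ, Module.End.mul_apply]
    refine ih (U.map n) ?_ ?_ hn _ (mem_map_of_mem hx)
    · rintro _ ⟨y, hy, rfl⟩
      exact mem_map_of_mem (hU y hy)
    · by_contra hlt
      have hle : U.map n ≤ U := by rintro _ ⟨y, hy, rfl⟩; exact hU y hy
      have heq : U.map n = U := Submodule.eq_of_le_of_finrank_le hle (by omega)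
      obtain ⟨t, ht⟩ := hn
      have hpow : ∀ t : ℕ, U.map (n ^ t) = U := by
        intro t
        induction t with
        | zero => rw [pow_zero]; exact Submodule.map_id U
        | succ t iht => rw [pow_succ, Module.End.mul_eq_comp, Submodule.map_comp, heq, iht]
      have hbot : U = ⊥ := by rw [← hpow t, ht, Submodule.map_zero]
      rw [hbot, Submodule.map_bot, finrank_bot] at hlt
      omega

/-- A unipotent isometry of a nondegenerate space of dimension at most two is trivial. -/
theorem unipotent_small (h2 : (2 : F) ≠ 0) {a : Module.End F V} (ha : ∀ v, Q (a v) = Q v) (hn : IsNilpotent (a - 1))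
    (U : Submodule F V) (hU : ∀ x ∈ U, a x ∈ U) (hd : Module.finrank F U ≤ 2) (hnd : ND Q U) :
    ∀ x ∈ U, a x = x := by
  classical
  have hN : ∀ x ∈ U, (a - 1) x ∈ U := fun x hx => U.sub_mem (hU x hx) hx
  have h0 : ∀ x ∈ U, (a - 1) ((a - 1) x) = 0 := fun x hx => by
    have := nilpotent_pow_apply (a - 1) 2 U hN hd hn x hx
    rwa [pow_two, Module.End.mul_apply] at this
  set n := a - 1 with hndef
  have hax : ∀ x, a x = n x + x := fun x => by simp [hndef]
  have hiso : ∀ x y, polar (⇑Q) (n x) (n y) + polar (⇑Q) (n x) y + polar (⇑Q) x (n y) = 0 := by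
    intro x y
    have h := polar_map Q ha x y
    rw [hax, hax, QuadraticMap.polar_add_left, QuadraticMap.polar_add_right, QuadraticMap.polar_add_right] at h
    linear_combination h
  have hnn : ∀ x ∈ U, ∀ y ∈ U, polar (⇑Q) (n x) (n y) = 0 := fun x hx y hy => by
    have h := hiso x (n y)
    rw [h0 y hy, QuadraticMap.polar_zero_right, QuadraticMap.polar_zero_right, zero_add, add_zero] at h
    exact h
  have hskew : ∀ x ∈ U, polar (⇑Q) (n x) x = 0 := fun x hx => by
    have h := hiso x x
    rw [hnn x hx x hx, QuadraticMap.polar_comm (⇑Q) x (n x), zero_add] at h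
    have : (2 : F) * polar (⇑Q) (n x) x = 0 := by linear_combination h
    exact (mul_eq_zero.1 this).resolve_left h2
  intro x hx
  rw [hax]
  suffices n x = 0 by rw [this, zero_add]
  by_contra hne
  have hli : LinearIndependent F ![(⟨n x, hN x hx⟩ : U), ⟨x, hx⟩] := by
    rw [LinearIndependent.pair_iff' (fun h => hne (congrArg Subtype.val h))]
    intro t h
    have h1 : t • n x = x := congrArg Subtype.val h
    have h3 := congrArg n h1
    rw [map_smul, h0 x hx, smul_zero] at h3
    exact hne h3.symm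
  refine hne (hnd _ (hN x hx) fun y hy => ?_)
  have hsp : (⟨y, hy⟩ : U) ∈ Submodule.span F (Set.range ![(⟨n x, hN x hx⟩ : U), ⟨x, hx⟩]) := by
    rw [hli.span_eq_top_of_card_eq_finrank' (le_antisymm hli.fintype_card_le_finrank (by simpa using hd))]
    trivial
  obtain ⟨c, hc⟩ := (Submodule.mem_span_range_iff_exists_fun F).1 hsp
  have hy' : y = c 0 • n x + c 1 • x := by
    have := congrArg Subtype.val hc
    simpa [Fin.sum_univ_two] using this.symm
  rw [hy', QuadraticMap.polar_add_right, QuadraticMap.polar_smul_right, QuadraticMap.polar_smul_right,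
    hnn x hx x hx, hskew x hx]
  simp

/-- Orthogonal splitting of an element of order prime to the characteristic. -/
theorem split_facts (hQ : (polarBilin Q).Nondegenerate) {b : Module.End F V} (hb : ∀ v, Q (b v) = Q v) {k : ℕ}
    (hbk : b ^ k = 1) (hk : (k : F) ≠ 0) (U : Submodule F V) (hU : ∀ x ∈ U, b x ∈ U) (hnd : ND Q U) :
    (U.map (b - 1)) ⊓ (U ⊓ LinearMap.ker (b - 1)) = ⊥ ∧
      (U.map (b - 1)) ⊔ (U ⊓ LinearMap.ker (b - 1)) = U ∧
      Module.finrank F (U.map (b - 1)) + Module.finrank F ↥(U ⊓ LinearMap.ker (b - 1)) = Module.finrank F U ∧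
      (∀ x ∈ U.map (b - 1), ∀ y ∈ U ⊓ LinearMap.ker (b - 1), polar (⇑Q) x y = 0) ∧
      ND Q (U.map (b - 1)) ∧ ND Q (U ⊓ LinearMap.ker (b - 1)) := by
  have hker : ∀ y, y ∈ LinearMap.ker (b - 1) ↔ b y = y := fun y => by
    rw [LinearMap.mem_ker, LinearMap.sub_apply, Module.End.one_apply, sub_eq_zero]
  have hdis : U.map (b - 1) ⊓ (U ⊓ LinearMap.ker (b - 1)) = ⊥ := by
    rw [eq_bot_iff]
    rintro _ ⟨⟨x, -, rfl⟩, -, hy⟩
    have hy' : b ((b - 1) x) = (b - 1) x := (hker _).1 hy
    have hpow : ∀ j : ℕ, (b ^ j) x = x + (j : F) • (b - 1) x := by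
      intro j
      induction j with
      | zero => simp
      | succ j ih =>
        rw [pow_succ', Module.End.mul_apply, ih, map_add, map_smul, hy', Nat.cast_succ, add_smul, one_smul]
        simp only [LinearMap.sub_apply, Module.End.one_apply]
        abel
    have h := hpow k
    rw [hbk, Module.End.one_apply, left_eq_add, smul_eq_zero] at h
    exact h.resolve_left hk
  have hle : U.map (b - 1) ≤ U := by
    rintro _ ⟨x, hx, rfl⟩
    exact U.sub_mem (hU x hx) hx
  have hdim : Module.finrank F (U.map (b - 1)) + Module.finrank F ↥(U ⊓ LinearMap.ker (b - 1)) = Module.finrank F U := by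
    rw [← LinearMap.finrank_range_add_finrank_ker ((b - 1).domRestrict U), LinearMap.range_domRestrict]
    congr 1
    refine LinearEquiv.finrank_eq ?_
    exact
      { toFun := fun x => ⟨⟨x.1, x.2.1⟩, x.2.2⟩
        invFun := fun x => ⟨x.1.1, x.1.2, x.2⟩
        left_inv := fun _ => rfl
        right_inv := fun _ => rfl
        map_add' := fun _ _ => rfl
        map_smul' := fun _ _ => rfl }
  have hsup : U.map (b - 1) ⊔ (U ⊓ LinearMap.ker (b - 1)) = U := by
    refine Submodule.eq_of_le_of_finrank_eq (sup_le hle inf_le_left) ?_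
    have h := Submodule.finrank_sup_add_finrank_inf_eq (U.map (b - 1)) (U ⊓ LinearMap.ker (b - 1))
    rw [hdis, finrank_bot, add_zero] at h
    rw [h, hdim]
  have horth : ∀ x ∈ U.map (b - 1), ∀ y ∈ U ⊓ LinearMap.ker (b - 1), polar (⇑Q) x y = 0 := by
    rintro _ ⟨x, -, rfl⟩ y ⟨-, hy⟩
    rw [LinearMap.sub_apply, Module.End.one_apply, QuadraticMap.polar_sub_left]
    nth_rw 1 [← (hker y).1 hy]
    rw [polar_map Q hb, sub_self]
  refine ⟨hdis, hsup, hdim, horth, fun x hx h => ?_, fun x hx h => ?_⟩
  · refine hnd x (hle hx) fun y hy => ?_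
    rw [← hsup] at hy
    obtain ⟨y1, hy1, y2, hy2, rfl⟩ := Submodule.mem_sup.1 hy
    rw [QuadraticMap.polar_add_right, h y1 hy1, horth x hx y2 hy2, add_zero]
  · refine hnd x hx.1 fun y hy => ?_
    rw [← hsup] at hy
    obtain ⟨y1, hy1, y2, hy2, rfl⟩ := Submodule.mem_sup.1 hy
    rw [QuadraticMap.polar_add_right, h y2 hy2, QuadraticMap.polar_comm, horth y1 hy1 x hx, add_zero]

/-- A fixed-point-free element of order a primitive prime divisor of `q ^ e - 1` forces the dimension. -/
theorem free_dim {r e : ℕ} [Fact r.Prime] (he : orderOf (Fintype.card F : ZMod r) = e) {h : Module.End F V}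
    (hr : h ^ r = 1) (U : Submodule F V) (hU : ∀ x ∈ U, h x ∈ U) (hfree : ∀ x ∈ U, h x = x → x = 0) :
    e ∣ Module.finrank F U := by
  classical
  haveI : Finite V := Module.finite_of_finite F
  haveI := Fintype.ofFinite U
  let f : Function.End U := fun x => ⟨h x, hU x x.2⟩
  have hf : ∀ k (x : U), ((f ^ k) x).1 = (h ^ k) x.1 := fun k => by
    induction k with
    | zero => exact fun x => rfl
    | succ k ih => intro x; rw [pow_succ', pow_succ', Module.End.mul_apply, ← ih]; rfl
  have hfr : f ^ r ^ 1 = 1 := by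
    funext x
    refine Subtype.ext ?_
    rw [pow_one, hf, hr]
    rfl
  have hc := Equiv.Perm.card_fixedPoints_modEq hfr
  have h1 : Fintype.card (Function.fixedPoints f) = 1 := by
    rw [Fintype.card_eq_one_iff]
    refine ⟨⟨0, Subtype.ext (map_zero h)⟩, fun x => Subtype.ext (Subtype.ext ?_)⟩
    exact hfree x.1.1 x.1.2 (congrArg Subtype.val x.2)
  rw [h1, Module.card_eq_pow_finrank (K := F) (V := U)] at hc
  rw [← he]
  apply orderOf_dvd_of_pow_eq_one
  have := (ZMod.natCast_eq_natCast_iff _ _ _).2 hc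
  rw [Nat.cast_pow, Nat.cast_one] at this
  exact this

end Linear

section Count

variable {α : Type*} [Fintype α] [DecidableEq α]

/-- The sign of a permutation whose moved points all have period `N`, `N` even. -/
theorem sign_of_semiregular (σ : Equiv.Perm α) {N : ℕ} (hN : σ ^ N = 1) (heven : Even N)
    (hfree : ∀ x, σ x ≠ x → ∀ k : ℕ, (σ ^ k) x = x → N ∣ k) :
    ∃ c, σ.support.card = N * c ∧ Equiv.Perm.sign σ = (-1) ^ c := by
  have hall : ∀ n ∈ σ.cycleType, n = N := by
    intro n hn
    have h1 : n ∣ N := (Equiv.Perm.dvd_of_mem_cycleType hn).trans (orderOf_dvd_of_pow_eq_one hN)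
    obtain ⟨c, τ, hστ, hdis, hc, hcn⟩ := Equiv.Perm.mem_cycleType_iff.1 hn
    obtain ⟨x, hx⟩ := hc.nonempty_support
    rw [Equiv.Perm.mem_support] at hx
    have hτx : τ x = x := (hdis x).resolve_left hx
    have hcom : Commute c τ := hdis.commute
    have hσk : ∀ k : ℕ, (σ ^ k) x = (c ^ k) x := fun k => by
      rw [hστ, hcom.mul_pow, Equiv.Perm.mul_apply, Equiv.Perm.pow_apply_eq_self_of_apply_eq_self hτx]
    have hmove : σ x ≠ x := by
      have := hσk 1
      rw [pow_one, pow_one] at this
      rwa [this]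
    have hcpow : c ^ n = 1 := by rw [← hcn, ← hc.orderOf, pow_orderOf_eq_one]
    exact Nat.dvd_antisymm h1 (hfree x hmove n (by rw [hσk, hcpow]; rfl))
  have hrep := Multiset.eq_replicate_card.2 hall
  refine ⟨Multiset.card σ.cycleType, ?_, ?_⟩
  · rw [← Equiv.Perm.sum_cycleType, hrep, Multiset.sum_replicate, Multiset.card_replicate, smul_eq_mul, mul_comm]
  · rw [Equiv.Perm.sign_of_cycleType, hrep, Multiset.sum_replicate, Multiset.card_replicate, smul_eq_mul, pow_add,
      (heven.mul_left _).neg_one_pow, one_mul]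

end Count

section Main

open Cfsg.Lib.Classical.Refl Matrix

variable {F : Type u} [Field F] [Fintype F] [DecidableEq F] {ι : Type} [Fintype ι] [DecidableEq ι]
  (Q : QuadraticForm F (ι → F))

/-- Determinant one in odd dimension gives a fixed vector. -/
theorem exists_fixed (h2 : (2 : F) ≠ 0) (hQ : (polarBilin Q).Nondegenerate) (hodd : Odd (Fintype.card ι))
    (A : Matrix ι ι F) (hA : ∀ v, Q (A *ᵥ v) = Q v) (hd : A.det = 1) : ∃ v, v ≠ 0 ∧ A *ᵥ v = v := by
  set G : Matrix ι ι F := LinearMap.BilinForm.toMatrix' (polarBilin Q) with hG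
  have hGd : G.det ≠ 0 := LinearMap.BilinForm.nondegenerate_toMatrix'_iff.2 hQ |>.det_ne_zero
  have hAG : Aᵀ * G * A = G := by
    have e : LinearMap.BilinForm.comp (polarBilin Q : LinearMap.BilinForm F (ι → F)) (Matrix.toLin' A) (Matrix.toLin' A) =
        polarBilin Q :=
      LinearMap.ext₂ fun x y => by
        show polar (⇑Q) (Matrix.toLin' A x) (Matrix.toLin' A y) = polar (⇑Q) x y
        exact polar_map Q (a := Matrix.toLin' A) (fun v => by rw [Matrix.toLin'_apply]; exact hA v) x y
    have := congrArg LinearMap.BilinForm.toMatrix' e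
    rw [LinearMap.BilinForm.toMatrix'_comp, LinearMap.toMatrix'_toLin'] at this
    exact this
  have e1 : (A - 1)ᵀ * G * A = -(G * (A - 1)) := by
    rw [Matrix.transpose_sub, Matrix.transpose_one, Matrix.sub_mul, Matrix.sub_mul, hAG, Matrix.one_mul, Matrix.mul_sub,
      Matrix.mul_one, neg_sub]
  have h := congrArg Matrix.det e1
  rw [det_mul, det_mul, det_transpose, det_neg, det_mul, hd, mul_one, hodd.neg_one_pow] at h
  have h0 : (A - 1).det = 0 := by
    have : (2 : F) * (G.det * (A - 1).det) = 0 := by linear_combination h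
    exact ((mul_eq_zero.1 ((mul_eq_zero.1 this).resolve_left h2))).resolve_left hGd
  obtain ⟨v, hv, hAv⟩ := Matrix.exists_mulVec_eq_zero_iff.2 h0
  refine ⟨v, hv, ?_⟩
  rwa [Matrix.sub_mulVec, Matrix.one_mulVec, sub_eq_zero] at hAv

/-- The moved points of norm one: an odd number of cycles of length `q ^ m + 1`. -/
theorem card_moved {V : Type v} [AddCommGroup V] [Module F V] [Fintype V] [DecidableEq V]
    [FiniteDimensional F V] (R : QuadraticForm F V) (h2 : (2 : F) ≠ 0) {W W' : Submodule F V} {m : ℕ} (hm : 1 ≤ m)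
    (hc : IsCompl W W') (horth : ∀ x ∈ W, ∀ y ∈ W', polar (⇑R) x y = 0) (hW : Module.finrank F W = 2 * m)
    (hW' : Module.finrank F W' = 3) (hnd : (polarBilin (R.comp W.subtype)).Nondegenerate)
    (D : Decomp (R.comp W.subtype) (⊤ : Submodule F W)) (hK : Module.finrank F D.K ≠ 0) :
    ∃ A : ℕ, Even A ∧
      (Nat.card {x : V // R x = 1 ∧ x ∉ W'} : ℤ) =
        ((Fintype.card F : ℤ) ^ m + 1) * ((Fintype.card F : ℤ) ^ (m + 2) - A) := by
  classical
  set q : ℤ := (Fintype.card F : ℤ) with hq
  have hW0 := OrthCount.card_zeros hm D hW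
  have hW1 := OrthCount.card_one hm hnd D hW
  rw [if_neg hK] at hW0 hW1
  have hWc : ∀ c : F, c ≠ 0 → (Nat.card {w : W // (R.comp W.subtype) w = c} : ℤ) = q ^ (m - 1) * (q ^ m + 1) := by
    intro c hc0
    obtain ⟨g, hg⟩ := similar_even (Q := R.comp W.subtype) hW hnd hc0
    rw [Nat.card_congr (g.symm.toEquiv.subtypeEquiv (q := fun w => (R.comp W.subtype) w = 1) fun w => ?_), hW1]
    · ring
    · have := hg (g.symm w)
      rw [LinearEquiv.apply_symm_apply] at this
      show _ ↔ (R.comp W.subtype) (g.symm w) = 1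
      rw [this]
      exact ⟨fun h => mul_left_cancel₀ hc0 (h.trans (mul_one c).symm), fun h => by rw [h, mul_one]⟩
  have hWz : (Nat.card {w : W // (R.comp W.subtype) w = 0 ∧ w ≠ 0} : ℤ) = (q ^ m + 1) * (q ^ (m - 1) - 1) := by
    have e : Nat.card {w : W // (R.comp W.subtype) w = 0 ∧ w ≠ 0} + 1 =
        Nat.card {w : W // (R.comp W.subtype) w = 0} := by
      rw [Nat.card_eq_fintype_card, Nat.card_eq_fintype_card, Fintype.card_subtype, Fintype.card_subtype,
        ← Finset.filter_filter, Finset.filter_ne']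
      exact Finset.card_erase_add_one (Finset.mem_filter.2 ⟨Finset.mem_univ _, QuadraticMap.map_zero _⟩)
    have e' := congrArg (fun x : ℕ => (x : ℤ)) e
    push_cast at e'
    rw [hW0] at e'
    obtain ⟨k, rfl⟩ : ∃ k, m = k + 1 := ⟨m - 1, by omega⟩
    rw [Nat.add_sub_cancel] at e' ⊢
    rw [show 2 * (k + 1) - 1 = (k + 1) + k by omega, pow_add] at e'
    linear_combination e'
  haveI := Fintype.ofFinite W'
  let Φ := Submodule.prodEquivOfIsCompl W W' hc
  have hΦ : ∀ p : W × W', R (Φ p) = (R.comp W.subtype) p.1 + R p.2 := fun p => by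
    rw [Submodule.coe_prodEquivOfIsCompl', QuadraticMap.map_add (f := R), horth _ p.1.2 _ p.2.2, add_zero]
    rfl
  let e : {x : V // R x = 1 ∧ x ∉ W'} ≃ Σ y : W', {w : W // (R.comp W.subtype) w = 1 - R y ∧ w ≠ 0} :=
    { toFun := fun x => ⟨(Φ.symm x.1).2, ⟨(Φ.symm x.1).1, by
        have h := hΦ (Φ.symm x.1)
        rw [LinearEquiv.apply_symm_apply, x.2.1] at h
        refine ⟨eq_sub_of_add_eq h.symm, fun h0 => x.2.2 ?_⟩
        have h1 := LinearEquiv.apply_symm_apply Φ x.1
        rw [Submodule.coe_prodEquivOfIsCompl', h0] at h1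
        rw [← h1]
        simp⟩⟩
      invFun := fun z => ⟨Φ (z.2.1, z.1), by rw [hΦ, z.2.2.1]; simp, fun hmem => z.2.2.2 (by
        have h1 : (z.2.1 : V) ∈ W' := by
          rw [Submodule.coe_prodEquivOfIsCompl'] at hmem
          simpa using W'.sub_mem hmem z.1.2
        exact Subtype.ext (Submodule.disjoint_def.1 hc.disjoint _ z.2.1.2 h1))⟩
      left_inv := fun x => Subtype.ext (Φ.apply_symm_apply x.1)
      right_inv := fun z => by
        refine Sigma.subtype_ext ?_ ?_ <;> simp }
  let A := (Finset.univ.filter fun y : W' => R y = 1).card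
  refine ⟨A, ?_, ?_⟩
  · let S := {y : W' // R y = 1}
    let σ : Equiv.Perm S :=
      { toFun := fun w => ⟨-w.1, by rw [Submodule.coe_neg, QuadraticMap.map_neg]; exact w.2⟩
        invFun := fun w => ⟨-w.1, by rw [Submodule.coe_neg, QuadraticMap.map_neg]; exact w.2⟩
        left_inv := fun w => Subtype.ext (neg_neg _)
        right_inv := fun w => Subtype.ext (neg_neg _) }
    have hfix : σ.support = Finset.univ := by
      ext w
      simp only [Equiv.Perm.mem_support, Finset.mem_univ, iff_true]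
      intro h
      have h1 : -(w.1.1) = w.1.1 := congrArg (fun z : S => z.1.1) h
      have h0 : (2 : F) • w.1.1 = 0 := by
        rw [two_smul]
        nth_rw 1 [← h1]
        exact neg_add_cancel _
      have h3 := w.2
      rw [(smul_eq_zero.1 h0).resolve_left h2, QuadraticMap.map_zero] at h3
      exact zero_ne_one h3
    have h := Equiv.Perm.two_dvd_card_support (σ := σ) (Equiv.ext fun w => Subtype.ext (neg_neg _))
    rw [hfix, Finset.card_univ, Fintype.card_subtype] at h
    exact even_iff_two_dvd.mpr h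
  · rw [Nat.card_congr e, Nat.card_sigma, Nat.cast_sum]
    have hterm : ∀ y : W', (Nat.card {w : W // (R.comp W.subtype) w = 1 - R y ∧ w ≠ 0} : ℤ) =
        q ^ (m - 1) * (q ^ m + 1) - (if R y = 1 then q ^ m + 1 else 0) := by
      intro y
      by_cases hy : R y = 1
      · rw [if_pos hy, hy, sub_self, hWz]
        ring
      · rw [if_neg hy, sub_zero, ← hWc (1 - R y) (sub_ne_zero.2 (Ne.symm hy))]
        congr 1
        refine Nat.card_congr (Equiv.subtypeEquivRight fun w => ⟨And.left, fun h => ⟨h, ?_⟩⟩)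
        rintro rfl
        rw [QuadraticMap.map_zero] at h
        exact hy (sub_eq_zero.1 h.symm).symm
    rw [Finset.sum_congr rfl fun y _ => hterm y, Finset.sum_sub_distrib, Finset.sum_const, Finset.card_univ,
      ← Finset.sum_filter, Finset.sum_const, nsmul_eq_mul, nsmul_eq_mul, Module.card_eq_pow_finrank (K := F) (V := W'),
      hW']
    obtain ⟨k, rfl⟩ : ∃ k, m = k + 1 := ⟨m - 1, by omega⟩
    rw [Nat.add_sub_cancel]
    push_cast
    ring

/-- The exclusion. -/
theorem no_element (p : ℕ) [Fact p.Prime] [CharP F p] (h2 : (2 : F) ≠ 0) (hQ : (polarBilin Q).Nondegenerate)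
    {m r : ℕ} (hm : 2 ≤ m) (hι : Fintype.card ι = 2 * m + 3) [Fact r.Prime]
    (hr : orderOf (Fintype.card F : ZMod r) = 2 * m) (g : Cfsg.isometryGroup F (⇑Q))
    (hg : orderOf g = p * (Fintype.card F ^ m + 1)) (hspin : spin Q g = 1) (hdet : (mat Q g).det = 1) : False := by
  classical
  have hp := (Fact.out : p.Prime)
  have hr' := (Fact.out : r.Prime)
  set q := Fintype.card F with hq
  set N := q ^ m + 1 with hN
  -- arithmetic
  obtain ⟨kq, -, hkq⟩ := FiniteField.card F p
  have hqp : p ∣ q := by rw [show q = p ^ (kq : ℕ) from hkq]; exact dvd_pow_self p kq.pos.ne'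
  have hpN : ¬ p ∣ N := fun h => hp.not_dvd_one ((Nat.dvd_add_right (dvd_pow hqp (by omega : m ≠ 0))).1 h)
  have hqodd : Odd q := Nat.odd_iff.2 (by
    rcases Nat.mod_two_eq_zero_or_one q with h | h
    · exfalso
      haveI : CharP F 2 := ringChar.eq_iff.1 (FiniteField.even_card_iff_char_two.2 h)
      exact h2 CharTwo.two_eq_zero
    · exact h)
  have hNeven : Even N := by rw [hN]; exact (hqodd.pow).add_one
  have hqr : (q : ZMod r) ≠ 0 := fun h => by
    rw [h, orderOf_zero] at hr
    omega
  have hqm : (q : ZMod r) ^ m = -1 := by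
    have h1 : ((q : ZMod r) ^ m) * ((q : ZMod r) ^ m) = 1 := by rw [← pow_add, ← two_mul, ← hr, pow_orderOf_eq_one]
    refine (mul_self_eq_one_iff.1 h1).resolve_left fun h => ?_
    have := Nat.le_of_dvd (by omega) (hr ▸ orderOf_dvd_of_pow_eq_one h)
    omega
  have hrN : r ∣ N := (ZMod.natCast_eq_zero_iff _ _).1 (by
    rw [hN, Nat.cast_add, Nat.cast_pow, Nat.cast_one, hqm, neg_add_cancel])
  have hrp : r ≠ p := fun h => hpN (h ▸ hrN)
  -- the elements
  let T : Cfsg.isometryGroup F (⇑Q) →* Module.End F (ι → F) :=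
    { toFun := fun x => Matrix.toLin' (mat Q x)
      map_one' := Matrix.toLin'_one
      map_mul' := fun x y => Matrix.toLin'_mul _ _ }
  have hTinj : Function.Injective T := fun x y h => ext_mulVec Q fun v => by
    have := LinearMap.congr_fun h v
    simpa [T] using this
  have hTQ : ∀ x v, Q (T x v) = Q v := fun x v => by
    show Q (Matrix.toLin' (mat Q x) v) = Q v
    rw [Matrix.toLin'_apply]
    exact (mem_iff Q).mp x.2 v
  set sg := g ^ p with hsg
  set s := T sg with hs
  set u := T (g ^ N) with hu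
  set h := T (sg ^ (N / r)) with hh
  have hordg : ∀ k, 0 < k → k < p * N → g ^ k ≠ 1 := fun k h1 h2' e => by
    have := Nat.le_of_dvd h1 (hg ▸ orderOf_dvd_of_pow_eq_one e)
    omega
  have hsN : s ^ N = 1 := by rw [hs, ← map_pow, hsg, ← pow_mul, ← hg, pow_orderOf_eq_one, map_one]
  have hup : u ^ p = 1 := by rw [hu, ← map_pow, ← pow_mul, mul_comm, ← hg, pow_orderOf_eq_one, map_one]
  have hu1 : u ≠ 1 := fun e => hordg N (by omega) (lt_mul_left (by omega) hp.one_lt) (hTinj (by rw [← hu, e, map_one]))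
  have hhr : h ^ r = 1 := by
    rw [hh, ← map_pow, ← pow_mul, Nat.div_mul_cancel hrN, map_pow, ← hs, hsN]
  have hhs : h = s ^ (N / r) := by rw [hh, map_pow]
  have hh1 : h ≠ 1 := fun e => by
    have hlt : p * (N / r) < p * N :=
      Nat.mul_lt_mul_of_pos_left (Nat.div_lt_self (by omega) hr'.one_lt) hp.pos
    refine hordg _ (Nat.mul_pos hp.pos (Nat.div_pos (Nat.le_of_dvd (by omega) hrN) hr'.pos)) hlt (hTinj ?_)
    rw [pow_mul, ← hsg, ← hh, e, map_one]
  have csu : Commute s u := by rw [hs, hu, hsg]; exact ((Commute.refl g).pow_pow p N).map T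
  have csh : Commute s h := hhs ▸ (Commute.refl s).pow_right _
  have cuh : Commute u h := hhs ▸ csu.symm.pow_right _
  have hinv : ∀ (a b : Module.End F (ι → F)), Commute a b → ∀ (U : Submodule F (ι → F)), (∀ x ∈ U, a x ∈ U) →
      (∀ x ∈ U.map (b - 1), a x ∈ U.map (b - 1)) ∧ ∀ x ∈ U ⊓ LinearMap.ker (b - 1), a x ∈ U ⊓ LinearMap.ker (b - 1) := by
    intro a b hab U hU
    have hab' : ∀ x, a ((b - 1) x) = (b - 1) (a x) := fun x => by
      simp only [LinearMap.sub_apply, Module.End.one_apply, map_sub]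
      congr 1
      exact LinearMap.congr_fun hab.eq x
    refine ⟨?_, ?_⟩
    · rintro _ ⟨x, hx, rfl⟩
      rw [hab']
      exact mem_map_of_mem (hU x hx)
    · rintro x ⟨hx, hxk⟩
      refine ⟨hU x hx, ?_⟩
      show (b - 1) (a x) = 0
      rw [← hab', show (b - 1) x = 0 from hxk, map_zero]
  have hcast : ∀ k : ℕ, ¬ p ∣ k → (k : F) ≠ 0 := fun k hk h => hk ((CharP.cast_eq_zero_iff F p k).1 h)
  obtain ⟨hdis, hsup, hdim, horth, hndW, hndW'⟩ := split_facts Q hQ (fun v => hTQ _ v) hhr
    (hcast r fun e => hrp ((Nat.prime_dvd_prime_iff_eq hp hr').1 e).symm) ⊤ (fun _ _ => trivial) (nd_top Q hQ)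
  set W := (⊤ : Submodule F (ι → F)).map (h - 1) with hW
  set W' := (⊤ : Submodule F (ι → F)) ⊓ LinearMap.ker (h - 1) with hW'
  obtain ⟨sW, sW'⟩ := hinv s h csh ⊤ (fun _ _ => trivial)
  obtain ⟨uW, uW'⟩ := hinv u h cuh ⊤ (fun _ _ => trivial)
  obtain ⟨hW_h, -⟩ := hinv h h (Commute.refl h) ⊤ (fun _ _ => trivial)
  have hfree : ∀ x ∈ W, h x = x → x = 0 := fun x hx hx' => by
    have : x ∈ W ⊓ W' := ⟨hx, trivial, by show (h - 1) x = 0; simp [hx']⟩
    rw [hdis] at this
    exact this
  have hV : Module.finrank F (ι → F) = 2 * m + 3 := by rw [Module.finrank_pi, hι]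
  rw [finrank_top, hV] at hdim
  have hWdim : Module.finrank F W = 2 * m := by
    obtain ⟨c, hc⟩ := free_dim hr hhr W hW_h hfree
    have hne : Module.finrank F W ≠ 0 := by
      intro e
      refine hh1 (LinearMap.ext fun x => sub_eq_zero.1 ?_)
      have : (h - 1) x ∈ W := mem_map_of_mem trivial
      rw [Submodule.finrank_eq_zero.1 e] at this
      simpa using this
    have hlt : c < 2 := by nlinarith
    interval_cases c <;> omega
  have hW'dim : Module.finrank F W' = 3 := by omega
  -- commuting elements with a fixed vector in `W` are trivial on `W`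
  have hfix : ∀ a : Module.End F (ι → F), Commute a h → ∀ w ∈ W, w ≠ 0 → a w = w → ∀ x ∈ W, a x = x := by
    intro a ha w hw hw0 haw
    set U := W ⊓ LinearMap.ker (a - 1) with hU
    have hUh : ∀ x ∈ U, h x ∈ U := by
      rintro x ⟨hx, hxk⟩
      refine ⟨hW_h x hx, ?_⟩
      show (a - 1) (h x) = 0
      have : a x = x := sub_eq_zero.1 hxk
      rw [LinearMap.sub_apply, Module.End.one_apply, sub_eq_zero]
      conv_rhs => rw [← this]
      exact LinearMap.congr_fun ha.eq x
    have h1 := free_dim hr hhr U hUh fun x hx => hfree x hx.1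
    have h0 : Module.finrank F U ≠ 0 := by
      intro e
      have : w ∈ U := ⟨hw, by show (a - 1) w = 0; simp [haw]⟩
      rw [Submodule.finrank_eq_zero.1 e] at this
      exact hw0 this
    have hUW : U = W := Submodule.eq_of_le_of_finrank_le inf_le_left (by
      rw [hWdim]; exact Nat.le_of_dvd (Nat.pos_of_ne_zero h0) h1)
    intro x hx
    rw [← hUW] at hx
    exact sub_eq_zero.1 hx.2
  -- `u` is unipotent
  have hnil : IsNilpotent (u - 1) := by
    haveI : Nonempty ι := Fintype.card_pos_iff.1 (by omega)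
    haveI : CharP (Module.End F (ι → F)) p :=
      charP_of_injective_algebraMap (algebraMap F (Module.End F (ι → F))).injective p
    exact ⟨p, by rw [sub_pow_char_of_commute p (Commute.one_right u), hup, one_pow, sub_self]⟩
  have huW : ∀ x ∈ W, u x = x := by
    intro x hx
    have hz := nilpotent_pow_apply (u - 1) _ W (fun y hy => W.sub_mem (uW y hy) hy) le_rfl hnil x hx
    by_contra hne
    have hex : ∃ w ∈ W, w ≠ 0 ∧ u w = w := by
      have key : ∀ k : ℕ, ∀ y ∈ W, y ≠ 0 → ((u - 1) ^ k) y = 0 → ∃ w ∈ W, w ≠ 0 ∧ u w = w := by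
        intro k
        induction k with
        | zero => intro y _ hy0 hy; exact absurd hy hy0
        | succ k ih =>
          intro y hy hy0 hyk
          by_cases hy1 : (u - 1) y = 0
          · exact ⟨y, hy, hy0, sub_eq_zero.1 hy1⟩
          · rw [pow_succ, Module.End.mul_apply] at hyk
            exact ih _ (W.sub_mem (uW y hy) hy) hy1 hyk
      exact key _ x hx (fun e => hne (by rw [e, map_zero])) hz
    obtain ⟨w, hw, hw0, huw⟩ := hex
    exact hne (hfix u cuh w hw hw0 huw x hx)
  have hdecomp : ∀ v : (ι → F), ∃ w ∈ W, ∃ w' ∈ W', w + w' = v := fun v =>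
    Submodule.mem_sup.1 (hsup ▸ (trivial : v ∈ (⊤ : Submodule F (ι → F))))
  -- `s` is trivial on `W'`
  have hsW' : ∀ x ∈ W', s x = x := by
    obtain ⟨hdis1, hsup1, hdim1, -, hnd1, hnd2⟩ := split_facts Q hQ (fun v => hTQ _ v) hsN (hcast N hpN) W' sW' hndW'
    obtain ⟨uA, uB⟩ := hinv u s csu.symm W' uW'
    set A1 := W'.map (s - 1)
    set B1 := W' ⊓ LinearMap.ker (s - 1) with hB1
    have hB0 : Module.finrank F B1 ≠ 0 := by
      intro e
      obtain ⟨v, hv0, hv⟩ := exists_fixed Q h2 hQ (hι ▸ ⟨m + 1, by ring⟩) (mat Q sg) (fun v => (mem_iff Q).mp sg.2 v) (by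
        show (detHom Q sg : F) = 1
        rw [hsg, map_pow, Units.val_pow_eq_pow_val, show (detHom Q g : F) = 1 from hdet, one_pow])
      have hsv : s v = v := by
        show Matrix.toLin' (mat Q sg) v = v
        rw [Matrix.toLin'_apply]; exact hv
      obtain ⟨w, hw, w', hw', hvw⟩ := hdecomp v
      have h1 : s w - w = w' - s w' := by
        have := hsv
        rw [← hvw, map_add] at this
        linear_combination (norm := module) this
      have h2' : s w - w = 0 := by
        have hmem : s w - w ∈ W ⊓ W' := ⟨W.sub_mem (sW w hw) hw, h1 ▸ W'.sub_mem hw' (sW' w' hw')⟩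
        rw [hdis] at hmem
        exact hmem
      rcases eq_or_ne w 0 with hw0 | hw0
      · have : w' ∈ B1 := ⟨hw', by
          show (s - 1) w' = 0
          rw [h2'] at h1
          rw [LinearMap.sub_apply, Module.End.one_apply, ← neg_sub, ← h1, neg_zero]⟩
        rw [Submodule.finrank_eq_zero.1 e] at this
        exact hv0 (by rw [← hvw, hw0, show w' = 0 from this, add_zero])
      · have hall := hfix s csh w hw hw0 (sub_eq_zero.1 h2')
        refine hw0 (hfree w hw ?_)
        have : ∀ k, (s ^ k) w = w := fun k => by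
          induction k with
          | zero => rfl
          | succ k ih => rw [pow_succ', Module.End.mul_apply, ih, hall w hw]
        rw [hhs, this]
    by_contra hne
    simp only [not_forall] at hne
    obtain ⟨x0, hx0, hne⟩ := hne
    have hB3 : Module.finrank F B1 ≤ 2 := by
      by_contra hB
      have : B1 = W' := Submodule.eq_of_le_of_finrank_le inf_le_left (by omega)
      rw [← this] at hx0
      exact hne (sub_eq_zero.1 hx0.2)
    have huA := unipotent_small Q h2 (fun v => hTQ _ v) hnil A1 uA (by omega) hnd1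
    have huB := unipotent_small Q h2 (fun v => hTQ _ v) hnil B1 uB hB3 hnd2
    refine hu1 (LinearMap.ext fun v => ?_)
    obtain ⟨w, hw, w', hw', rfl⟩ := hdecomp v
    rw [← hsup1] at hw'
    obtain ⟨a1, ha1, b1, hb1, rfl⟩ := Submodule.mem_sup.1 hw'
    rw [map_add, map_add, huW w hw, huA a1 ha1, huB b1 hb1]
    rfl
  -- the moved points
  have hperiod : ∀ v, v ∉ W' → ∀ k : ℕ, (s ^ k) v = v → N ∣ k := by
    intro v hv k hk
    obtain ⟨w, hw, w', hw', hvw⟩ := hdecomp v
    have hw0 : w ≠ 0 := fun e => hv (by rw [← hvw, e, zero_add]; exact hw')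
    have hsk : ∀ j, ∀ y ∈ W', (s ^ j) y = y := fun j y hy => by
      induction j with
      | zero => rfl
      | succ j ih => rw [pow_succ', Module.End.mul_apply, ih, hsW' y hy]
    rw [← hvw, map_add, hsk k w' hw', add_left_inj] at hk
    have hall := hfix (s ^ k) (csh.pow_left k) w hw hw0 hk
    have hsk1 : s ^ k = 1 := by
      refine LinearMap.ext fun y => ?_
      obtain ⟨y1, hy1, y2, hy2, rfl⟩ := hdecomp y
      rw [map_add, hall y1 hy1, hsk k y2 hy2]; rfl
    have h4 : g ^ (p * k) = 1 := hTinj (by rw [pow_mul, map_pow, ← hsg, ← hs, hsk1, map_one])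
    exact Nat.dvd_of_mul_dvd_mul_left hp.pos (hg ▸ orderOf_dvd_of_pow_eq_one h4)
  set σ := spherePerm Q sg with hσ
  have hσv : ∀ (k : ℕ) (x : {x : (ι → F) // Q x = 1}), ((σ ^ k) x).1 = (s ^ k) x.1 := by
    intro k x
    induction k with
    | zero => rfl
    | succ k ih =>
      rw [pow_succ', Equiv.Perm.mul_apply, pow_succ', Module.End.mul_apply, ← ih]
      show mat Q sg *ᵥ _ = Matrix.toLin' (mat Q sg) _
      rw [Matrix.toLin'_apply]
  have hmoved : ∀ x : {x : (ι → F) // Q x = 1}, σ x ≠ x ↔ x.1 ∉ W' := fun x => by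
    have h1 := hσv 1 x
    rw [pow_one, pow_one] at h1
    rw [Ne, Subtype.ext_iff, h1]
    refine not_congr ⟨fun e => ?_, fun e => hsW' _ e⟩
    by_contra hx
    have := Nat.le_of_dvd one_pos (hperiod x.1 hx 1 (by rw [pow_one]; exact e))
    have := Nat.one_le_pow m q Fintype.card_pos
    omega
  obtain ⟨c, hcard, hsign⟩ := sign_of_semiregular σ (N := N)
    (Equiv.ext fun x => Subtype.ext (by rw [hσv, hsN]; rfl)) hNeven
    (fun x hx k hk => hperiod x.1 ((hmoved x).1 hx) k (by rw [← hσv, hk]))
  have hs1 : Equiv.Perm.sign σ = 1 := by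
    have : spin Q sg = 1 := by rw [hsg, map_pow, hspin, one_pow]
    exact this
  have hceven : Even c := by
    rcases Nat.even_or_odd c with hce | hco
    · exact hce
    · rw [hs1, hco.neg_one_pow] at hsign
      exact absurd hsign (by decide)
  have hcW : IsCompl W W' := ⟨disjoint_iff.2 hdis, codisjoint_iff.2 hsup⟩
  have hndQ : (polarBilin (Q.comp W.subtype)).Nondegenerate := by
    have hl : ∀ x : W, (∀ y : W, polar (⇑(Q.comp W.subtype)) x y = 0) → x = 0 := fun x hx =>
      Subtype.ext (hndW x.1 x.2 fun y hy => by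
        have := hx ⟨y, hy⟩
        simpa [polar] using this)
    exact ⟨hl, fun x hx => hl x fun y => by rw [QuadraticMap.polar_comm]; exact hx y⟩
  obtain ⟨D⟩ := exists_decomp (Q.comp W.subtype) _ ⊤ rfl (nd_top _ hndQ)
  have hK : Module.finrank F D.K ≠ 0 := by
    intro hK0
    let aW : Module.End F W := h.restrict hW_h
    have haW : ∀ k (w : W), ((aW ^ k) w).1 = (h ^ k) w.1 := fun k => by
      induction k with
      | zero => exact fun w => rfl
      | succ k ih => intro w; rw [pow_succ', pow_succ', Module.End.mul_apply, Module.End.mul_apply, ← ih]; rfl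
    have hf := OrthCount.free_sign (r := r) (w := m) hndQ D hWdim hqr aW (fun w => hTQ _ w.1)
      (LinearMap.ext fun w => Subtype.ext (by rw [haW, hhr]; rfl))
      (fun w hw => Subtype.ext (hfree w.1 w.2 (congrArg Subtype.val hw)))
    rw [if_pos hK0, hqm] at hf
    haveI : Fact (2 < r) := ⟨by
      rcases hr'.two_le.eq_or_lt with e | e
      · exfalso
        subst e
        have : (q : ZMod 2) = 1 := (ZMod.natCast_eq_one_iff_odd).2 hqodd
        rw [this, orderOf_one] at hr
        omega
      · exact e⟩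
    exact ZMod.neg_one_ne_one hf
  obtain ⟨A, hA, hcnt⟩ := card_moved Q h2 (show 1 ≤ m by omega) hcW horth hWdim hW'dim hndQ D hK
  have hsupp : σ.support.card = Nat.card {x : (ι → F) // Q x = 1 ∧ x ∉ W'} := by
    rw [← Nat.card_congr (Equiv.subtypeSubtypeEquivSubtypeInter (fun x : (ι → F) => Q x = 1) (fun x => x ∉ W')),
      Nat.card_eq_fintype_card, Fintype.card_subtype]
    congr 1
    ext x
    simp only [Equiv.Perm.mem_support, Finset.mem_filter, Finset.mem_univ, true_and]
    exact hmoved x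
  rw [← hsupp, hcard] at hcnt
  push_cast [hN] at hcnt
  have hcq : (c : ℤ) = (q : ℤ) ^ (m + 2) - A := mul_left_cancel₀ (by positivity) hcnt
  obtain ⟨a1, ha1⟩ := hA
  obtain ⟨c1, hc1⟩ := hceven
  have hoddZ : Odd ((q : ℤ) ^ (m + 2)) := (by exact_mod_cast hqodd : Odd (q : ℤ)).pow
  obtain ⟨b, hb⟩ := hoddZ
  rw [hb, ha1, hc1] at hcq
  push_cast at hcq
  omega

end Main

end Cfsg.Lib.OrthSpectrum
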